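import Groth.Agent.AbsApprox.AmpleLim
import Groth.Agent.AmpleDesc.Basic
import Groth.Agent.ModDesc.Descent
import Groth.Agent.ModDesc.LocFreeDesc
import Groth.Agent.ZeroSch.Basic
import Groth.Agent.S3590
import Groth.Agent.S4438
import Groth.Agent.ResDesc.Main
import Groth.Agent.LocFree.Props
import Groth.Prelude.Def_CurvBase
import Mathlib.RingTheory.Jacobson.Ring
import Mathlib.CategoryTheory.Limits.Shapes.Pullback.Connected

/-!
An ample invertible module on a base change to a field extension gives one on the scheme.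
-/

universe u

open CategoryTheory CategoryTheory.Limits AlgebraicGeometry Opposite

set_option autoImplicit false
set_option maxHeartbeats 1000000
set_option backward.isDefEq.respectTransparency false
set_option backward.isDefEq.respectTransparency.types false
set_option linter.style.haveILetI false
set_option synthInstance.maxHeartbeats 400000

noncomputable section

namespace Groth.Agent.FieldAmple

variable (k : Type u) [Field k] (K : Type u) [Field K] [Algebra k K]

/-- finitely generated subalgebras -/
abbrev FgAlg : Type u := {B : Subalgebra k K // B.FG}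

instance : IsFiltered (FgAlg k K) := by
  have : Nonempty (FgAlg k K) := ⟨⟨⊥, Subalgebra.fg_bot⟩⟩
  have : IsDirectedOrder (FgAlg k K) :=
    ⟨fun B C => ⟨⟨B.1 ⊔ C.1, B.2.sup C.2⟩, (le_sup_left : B.1 ≤ B.1 ⊔ C.1), (le_sup_right : C.1 ≤ B.1 ⊔ C.1)⟩⟩
  infer_instance

instance : IsCofiltered (FgAlg k K)ᵒᵖ := isCofiltered_op_of_isFiltered _

/-- the system of finitely generated subalgebras -/
def algFunctor : FgAlg k K ⥤ CommRingCat.{u} where
  obj B := CommRingCat.of B.1
  map h := CommRingCat.ofHom (Subalgebra.inclusion (leOfHom h : _ ≤ _)).toRingHom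

/-- its cocone -/
def algCocone : Cocone (algFunctor k K) where
  pt := CommRingCat.of K
  ι := { app := fun B => CommRingCat.ofHom (algebraMap B.1 K) }

/-- `K` is the colimit of its finitely generated subalgebras -/
def algIsColimit : IsColimit (algCocone k K) := by
  haveI : PreservesColimit (algFunctor k K) (forget CommRingCat.{u}) :=
    (inferInstance : PreservesFilteredColimits (forget CommRingCat.{u})).preserves_filtered_colimits _ |>.preservesColimit
  haveI : ReflectsColimit (algFunctor k K) (forget CommRingCat.{u}) := reflectsColimit_of_reflectsIsomorphisms _ _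
  refine isColimitOfReflects (forget CommRingCat.{u}) (Types.FilteredColimit.isColimitOf _ _ ?_ ?_)
  · intro x
    let B : FgAlg k K := ⟨Algebra.adjoin k {(show K from x)}, by
      simpa using Subalgebra.fg_adjoin_finset (R := k) ({(show K from x)} : Finset K)⟩
    exact ⟨B, ⟨(show K from x), Algebra.subset_adjoin (Set.mem_singleton _)⟩, rfl⟩
  · intro B C x y h
    let E : FgAlg k K := ⟨B.1 ⊔ C.1, B.2.sup C.2⟩
    exact ⟨E, homOfLE (le_sup_left : B.1 ≤ B.1 ⊔ C.1), homOfLE (le_sup_right : C.1 ≤ B.1 ⊔ C.1), Subtype.ext h⟩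

/-- the system of spectra -/
def algDiagram : (FgAlg k K)ᵒᵖ ⥤ Scheme.{u} := (algFunctor k K).op ⋙ Scheme.Spec

/-- its cone -/
def algCone : Cone (algDiagram k K) := Scheme.Spec.mapCone (algCocone k K).op

variable (X : Scheme.{u}) [X.Over (Spec (CommRingCat.of k))]

/-- the structure maps of the spectra -/
def toK (B : FgAlg k K) : Spec (CommRingCat.of B.1) ⟶ Spec (CommRingCat.of k) :=
  Spec.map (CommRingCat.ofHom (algebraMap k B.1))

theorem map_toK {B C : (FgAlg k K)ᵒᵖ} (a : B ⟶ C) :
    (algDiagram k K).map a ≫ toK k K C.unop = toK k K B.unop :=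
  (Spec.map_comp _ _).symm

/-- the base changes -/
def bcDiagram : (FgAlg k K)ᵒᵖ ⥤ Scheme.{u} where
  obj B := pullback (X ↘ Spec (CommRingCat.of k)) (toK k K B.unop)
  map {B C} a := pullback.lift (pullback.fst _ _) (pullback.snd _ _ ≫ (algDiagram k K).map a) (by
    rw [Category.assoc, map_toK]
    exact pullback.condition)
  map_id B := by
    apply pullback.hom_ext
    · simp
    · simp
      exact Category.comp_id _
  map_comp a b := by
    apply pullback.hom_ext
    · simp
    · simp

/-- the projection to the spectra -/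
def bcToAlg : bcDiagram k K X ⟶ algDiagram k K where
  app B := pullback.snd _ _
  naturality B C a := pullback.lift_snd _ _ _

/-- the projections from the base change to `K` -/
def bcProj (B : FgAlg k K) : Curv2.bc k X K ⟶ pullback (X ↘ Spec (CommRingCat.of k)) (toK k K B) :=
  pullback.lift (Curv2.bcFst k X K) (Curv2.bcSnd k X K ≫ Spec.map (CommRingCat.ofHom (algebraMap B.1 K))) (by
    rw [Category.assoc, toK, ← Spec.map_comp]
    exact pullback.condition)

/-- the cone -/
def bcCone : Cone (bcDiagram k K X) where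
  pt := Curv2.bc k X K
  π :=
    { app := fun B => bcProj k K X B.unop
      naturality := fun B C a => by
        apply pullback.hom_ext
        · simp [bcDiagram, bcProj]
        · simp only [bcDiagram, bcProj, Category.assoc, pullback.lift_snd, pullback.lift_snd_assoc,
            Functor.const_obj_map, Category.id_comp]
          exact congrArg (_ ≫ ·) ((algCone k K).w a).symm }

theorem isPullback_bcProj (B : FgAlg k K) :
    IsPullback (bcProj k K X B) (Curv2.bcSnd k X K) (pullback.snd _ _)
      (Spec.map (CommRingCat.ofHom (algebraMap B.1 K))) := by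
  refine IsPullback.of_right ?_ (pullback.lift_snd _ _ _) (IsPullback.of_hasPullback _ _)
  rw [bcProj, pullback.lift_fst, toK, ← Spec.map_comp]
  exact IsPullback.of_hasPullback _ _

/-- the limit -/
def bcIsLimit : IsLimit (bcCone k K X) :=
  haveI : IsConnected (FgAlg k K)ᵒᵖ := IsCofiltered.isConnected _
  isLimitOfIsPullbackOfIsConnected (bcToAlg k K X) (bcCone k K X) (algCone k K)
    { hom := Curv2.bcSnd k X K
      w := fun B => (pullback.lift_snd _ _ _).symm }
    (fun B => isPullback_bcProj k K X B.unop) (isLimitOfPreserves Scheme.Spec (algIsColimit k K).op)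

instance {B C : (FgAlg k K)ᵒᵖ} (a : B ⟶ C) : IsAffineHom ((bcDiagram k K X).map a) := by
  haveI : IsAffineHom ((bcDiagram k K X).map a ≫ pullback.fst (X ↘ Spec (CommRingCat.of k)) (toK k K C.unop)) := by
    rw [show (bcDiagram k K X).map a ≫ pullback.fst _ _ = pullback.fst _ _ from pullback.lift_fst _ _ _]
    exact MorphismProperty.pullback_fst (P := @IsAffineHom) _ _ (isAffineHom_of_isAffine _)
  haveI : IsAffineHom (pullback.fst (X ↘ Spec (CommRingCat.of k)) (toK k K C.unop)) :=
    MorphismProperty.pullback_fst (P := @IsAffineHom) _ _ (isAffineHom_of_isAffine _)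
  exact MorphismProperty.of_postcomp (W := @IsAffineHom) (W' := @IsSeparated) _
    (pullback.fst (X ↘ Spec (CommRingCat.of k)) (toK k K C.unop)) inferInstance inferInstance

theorem isInvertible_of_iso {Y : Scheme.{u}} {L M : Y.Modules} (e : L ≅ M) (h : PicF.IsInvertible L) :
    PicF.IsInvertible M := fun y =>
  let ⟨U, hy, ⟨φ⟩⟩ := h y
  ⟨U, hy, ⟨((Scheme.Modules.restrictFunctor U.ι).mapIso e).symm ≪≫ φ⟩⟩

theorem isFinLocFree_of_isInvertible {Y : Scheme.{u}} {L : Y.Modules} (h : PicF.IsInvertible L) :
    FlatMod.IsFinLocFree L := fun y =>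
  let ⟨U, hy, e⟩ := S3590.rankOne_of_isInvertible h y
  ⟨U, 1, hy, e⟩

/-- The main descent. -/
theorem exists_isAmple (L' : (Curv2.bc k X K).Modules) (hL' : CohB1.IsAmple L') :
    ∃ L : X.Modules, CohB1.IsAmple L := by
  haveI : CompactSpace (Curv2.bc k X K) := hL'.2.1
  haveI : (Curv2.bc k X K).IsSeparated := TMul.isSeparated_of_isAmple hL'
  haveI : QuasiSeparatedSpace (Curv2.bc k X K) := inferInstance
  haveI : Surjective (Spec.map (CommRingCat.ofHom (algebraMap k K))) :=
    ⟨fun y => PrimeSpectrum.comap_surjective_of_faithfullyFlat (B := K) y⟩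
  haveI : Surjective (Curv2.bcFst k X K) := MorphismProperty.pullback_fst (P := @Surjective) _ _ inferInstance
  haveI : IsAffineHom (Curv2.bcFst k X K) :=
    MorphismProperty.pullback_fst (P := @IsAffineHom) _ _ (isAffineHom_of_isAffine _)
  haveI : CompactSpace X := ⟨by
    rw [← Set.image_univ_of_surjective (Curv2.bcFst k X K).surjective]
    exact isCompact_univ.image (Curv2.bcFst k X K).continuous⟩
  haveI : QuasiSeparatedSpace X := AmpleDesc.quasiSeparatedSpace_of_surjective (Curv2.bcFst k X K)
  haveI : ∀ B, CompactSpace ((bcDiagram k K X).obj B) := fun B =>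
    haveI : IsAffineHom (pullback.fst (X ↘ Spec (CommRingCat.of k)) (toK k K B.unop)) :=
      MorphismProperty.pullback_fst (P := @IsAffineHom) _ _ (isAffineHom_of_isAffine _)
    QuasiCompact.compactSpace_of_compactSpace (pullback.fst (X ↘ Spec (CommRingCat.of k)) (toK k K B.unop))
  haveI : ∀ B, QuasiSeparatedSpace ((bcDiagram k K X).obj B) := fun B =>
    haveI : IsAffineHom (pullback.fst (X ↘ Spec (CommRingCat.of k)) (toK k K B.unop)) :=
      MorphismProperty.pullback_fst (P := @IsAffineHom) _ _ (isAffineHom_of_isAffine _)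
    quasiSeparatedSpace_of_quasiSeparated (pullback.fst (X ↘ Spec (CommRingCat.of k)) (toK k K B.unop))
  let D := bcDiagram k K X
  let c := bcCone k K X
  have hc : IsLimit c := bcIsLimit k K X
  haveI : Coh.IsQCoh L' := TMul.isQCoh_of_isInvertible hL'.1
  have hfp : CohB1.IsFP L' := LocFree.isFP_of_isFinLocFree (isFinLocFree_of_isInvertible hL'.1)
  obtain ⟨i, -, G, hG, hGfp, ⟨e⟩⟩ := ModDesc.exists_descend (i₀ := op (⟨⊥, Subalgebra.fg_bot⟩ : FgAlg k K)) hc hfp
  haveI := hG
  obtain ⟨j, φ, hj⟩ := ModDesc.exists_isFinLocFreeOfRank_stage D c hc hGfp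
    (S3590.rankOne_of_isInvertible (isInvertible_of_iso e.symm hL'.1))
  have hLj : PicF.IsInvertible ((Scheme.Modules.pullback (D.map φ)).obj G) := ZeroSch.isInvertible_of_rankOne hj
  obtain ⟨l, ψ, hl⟩ := AbsApprox.exists_isAmple_stage D c hc hLj
    (TMul.isAmple_congr (e.symm ≪≫ ((ModDesc.trIso (c.π.app j) (D.map φ) (c.w φ)).app G).symm) hL')
  -- a closed point of the stage
  let B := l.unop.1
  haveI : Algebra.FiniteType k B := (Subalgebra.fg_iff_finiteType _).1 l.unop.2
  haveI : Nontrivial B := inferInstance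
  obtain ⟨m, hm⟩ := Ideal.exists_maximal B
  letI : Field (B ⧸ m) := Ideal.Quotient.field m
  haveI : Algebra.FiniteType k (B ⧸ m) :=
    Algebra.FiniteType.of_surjective (Ideal.Quotient.mkₐ k m) (Ideal.Quotient.mk_surjective)
  haveI : Module.Finite k (B ⧸ m) := finite_of_finite_type_of_isJacobsonRing k (B ⧸ m)
  let q : Curv2.bc k X (B ⧸ m) ⟶ D.obj l := pullback.lift (Curv2.bcFst k X (B ⧸ m))
    (Curv2.bcSnd k X (B ⧸ m) ≫ Spec.map (CommRingCat.ofHom (algebraMap B (B ⧸ m)))) (by
      rw [Category.assoc, toK, ← Spec.map_comp]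
      exact pullback.condition)
  haveI : IsAffineHom q := by
    haveI : IsAffineHom (q ≫ pullback.fst (X ↘ Spec (CommRingCat.of k)) (toK k K l.unop)) := by
      rw [show q ≫ pullback.fst _ _ = Curv2.bcFst k X (B ⧸ m) from pullback.lift_fst _ _ _]
      exact MorphismProperty.pullback_fst (P := @IsAffineHom) _ _ (isAffineHom_of_isAffine _)
    haveI : IsAffineHom (pullback.fst (X ↘ Spec (CommRingCat.of k)) (toK k K l.unop)) :=
      MorphismProperty.pullback_fst (P := @IsAffineHom) _ _ (isAffineHom_of_isAffine _)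
    exact MorphismProperty.of_postcomp (W := @IsAffineHom) (W' := @IsSeparated) _
      (pullback.fst (X ↘ Spec (CommRingCat.of k)) (toK k K l.unop)) inferInstance inferInstance
  have hamp := TMul.isAmple_pullback_of_isAffineHom q hl
  -- finite locally free descent
  have hflat : Module.FaithfullyFlat k (B ⧸ m) := by
    letI : Nontrivial (B ⧸ m) := inferInstance
    haveI : Module.Free k (B ⧸ m) := Module.Free.of_divisionRing k (B ⧸ m)
    infer_instance
  haveI : IsFinite (Spec.map (CommRingCat.ofHom (algebraMap k (B ⧸ m)))) :=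
    (IsFinite.SpecMap_iff _).2 (RingHom.finite_algebraMap.2 inferInstance)
  haveI : Flat (Spec.map (CommRingCat.ofHom (algebraMap k (B ⧸ m)))) :=
    (HasRingHomProperty.Spec_iff (P := @Flat)).2 (RingHom.flat_algebraMap_iff.2 hflat.toFlat)
  haveI : LocallyOfFinitePresentation (Spec.map (CommRingCat.ofHom (algebraMap k (B ⧸ m)))) :=
    (HasRingHomProperty.Spec_iff (P := @LocallyOfFinitePresentation)).2
      (RingHom.finitePresentation_algebraMap.2 (Algebra.FinitePresentation.of_finiteType.1 inferInstance))
  haveI : Surjective (Spec.map (CommRingCat.ofHom (algebraMap k (B ⧸ m)))) :=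
    ⟨fun y => @PrimeSpectrum.comap_surjective_of_faithfullyFlat k (B ⧸ m) _ _ _ hflat y⟩
  let g := Curv2.bcFst k X (B ⧸ m)
  haveI : IsFinite g := MorphismProperty.pullback_fst (P := @IsFinite) _ _ inferInstance
  haveI : Flat g := MorphismProperty.pullback_fst (P := @Flat) _ _ inferInstance
  haveI : LocallyOfFinitePresentation g :=
    MorphismProperty.pullback_fst (P := @LocallyOfFinitePresentation) _ _ inferInstance
  haveI : Surjective g := MorphismProperty.pullback_fst (P := @Surjective) _ _ inferInstance
  haveI : QuasiCompact (X ↘ Spec (CommRingCat.of k)) := quasiCompact_of_compactSpace _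
  obtain ⟨L, -, hLa⟩ := (S4438.result (X ↘ Spec (CommRingCat.of k)) g
    (ResDesc.isFinLocFree_push g (isFinLocFree_of_isInvertible TMul.isInvertible_structureModule))).2
    ⟨_, hamp.1, (TMul.isRelAmple_iff_isAmple (f := g ≫ (X ↘ Spec (CommRingCat.of k)))).2 hamp⟩
  exact ⟨L, (TMul.isRelAmple_iff_isAmple (f := X ↘ Spec (CommRingCat.of k))).1 hLa⟩

end Groth.Agent.FieldAmple
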